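import Groth.Agent.RelCurveDiv.Sum
import Groth.Agent.HilbDLib.ClosedSub
import Groth.Agent.FComplLib.IdealComap

/-!
# A relative divisor of degree `d` becomes a sum of `d` sections after an fppf base change
-/

set_option autoImplicit false
set_option backward.isDefEq.respectTransparency false
set_option linter.style.haveILetI false

universe u

open CategoryTheory CategoryTheory.Limits AlgebraicGeometry

namespace Groth.Agent.DivSplit

theorem deg_comap {d : ℕ} {C S P S' : Scheme.{u}} {f : C ⟶ S} {b : S' ⟶ S} {pr : P ⟶ C} {q : P ⟶ S'}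
    (H : IsPullback pr q f b) (I : C.IdealSheafData) (hI : Mor2.IsFinLocFreeOfDeg d (I.subschemeι ≫ f)) :
    Mor2.IsFinLocFreeOfDeg d ((I.comap pr).subschemeι ≫ q) := by
  obtain ⟨⟨hfin, hfl, hfp⟩, hrk⟩ := hI
  have H2 := (IsPullback.of_hasPullback pr I.subschemeι).flip.paste_vert H
  have key : (I.comap pr).subschemeι ≫ q =
      ((I.comapIso pr).hom ≫ H2.isoPullback.hom) ≫ pullback.snd (I.subschemeι ≫ f) b := by
    simp
  rw [key]
  exact ⟨⟨inferInstance, inferInstance, inferInstance⟩, fun y => by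
    rw [Scheme.Hom.finrank_comp_left_of_isIso, Scheme.Hom.finrank_pullback_snd]; exact hrk _⟩

theorem exists_split (d : ℕ) : ∀ {C S : Scheme.{u}} (f : C ⟶ S) [IsSeparated f] [SmoothOfRelativeDimension 1 f]
    (I : C.IdealSheafData), Mor2.IsFinLocFreeOfDeg d (I.subschemeι ≫ f) →
    ∃ (S' : Scheme.{u}) (b : S' ⟶ S), Flat b ∧ Surjective b ∧ LocallyOfFinitePresentation b ∧
      ∀ (P : Scheme.{u}) (pr : P ⟶ C) (q : P ⟶ S'), IsPullback pr q f b →
        ∃ σ : Fin d → (S' ⟶ P), (∀ i, σ i ≫ q = 𝟙 S') ∧ I.comap pr = ∏ i, (σ i).ker := by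
  induction d with
  | zero =>
    intro C S f _ _ I hI
    refine ⟨S, 𝟙 S, inferInstance, inferInstance, inferInstance, fun P pr q _ => ⟨Fin.elim0, fun i => i.elim0, ?_⟩⟩
    rw [RelCurveDiv.eq_top_of_deg_zero f I hI, Scheme.IdealSheafData.comap_top]
    simp [Scheme.IdealSheafData.one_eq_top]
  | succ d ih =>
    intro C S f _ hf I hI
    let b₁ : I.subscheme ⟶ S := I.subschemeι ≫ f
    let f₁ : pullback f b₁ ⟶ I.subscheme := pullback.snd f b₁
    have H₁ : IsPullback (pullback.fst f b₁) f₁ f b₁ := IsPullback.of_hasPullback f b₁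
    haveI : SmoothOfRelativeDimension 1 f₁ :=
      haveI := smoothOfRelativeDimension_isStableUnderBaseChange 1
      MorphismProperty.of_isPullback (P := @SmoothOfRelativeDimension 1) H₁ hf
    haveI : IsSeparated f₁ := MorphismProperty.of_isPullback (P := @IsSeparated) H₁ inferInstance
    let δ : I.subscheme ⟶ pullback f b₁ := pullback.lift I.subschemeι (𝟙 _) (Category.id_comp _).symm
    have hδf : δ ≫ f₁ = 𝟙 _ := pullback.lift_snd _ _ _
    haveI : IsClosedImmersion δ := by
      have : IsClosedImmersion (δ ≫ f₁) := by rw [hδf]; infer_instance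
      exact IsClosedImmersion.of_comp δ f₁
    have hδ : Mor2.IsFinLocFreeOfDeg 1 (δ.ker.subschemeι ≫ f₁) := by
      rw [HilbDLib.finLocFreeOfDeg_ker, hδf]
      exact ⟨⟨inferInstance, inferInstance, inferInstance⟩, fun y =>
        congrFun (Scheme.Hom.finrank_eq_one_of_isIso (𝟙 I.subscheme)) y⟩
    have hle : I.comap (pullback.fst f b₁) ≤ δ.ker := by
      rw [← Scheme.IdealSheafData.le_map_iff_comap_le, Scheme.IdealSheafData.map_ker,
        pullback.lift_fst, Scheme.IdealSheafData.ker_subschemeι]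
    obtain ⟨I', hI', heq⟩ := RelCurveDiv.difference_finLocFreeOfDeg f₁ _ _ hle 1 (d + 1) hδ (deg_comap H₁ I hI)
    rw [Nat.add_sub_cancel] at hI'
    obtain ⟨S', b₂, h1, h2, h3, hb₂⟩ := ih f₁ I' hI'
    obtain ⟨⟨g1, g2, g3⟩, g4⟩ := hI
    haveI : Surjective b₁ := (Scheme.Hom.one_le_finrank_iff_surjective b₁).1 fun y => by
      rw [g4 y]; exact Nat.succ_pos d
    refine ⟨S', b₂ ≫ b₁, inferInstance, inferInstance, inferInstance, fun P pr q H => ?_⟩
    let pr₂ : P ⟶ pullback f b₁ := pullback.lift pr (q ≫ b₂) (by rw [H.w, Category.assoc])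
    have hpr₂ : pr₂ ≫ pullback.fst f b₁ = pr := pullback.lift_fst _ _ _
    have H₂ : IsPullback pr₂ q f₁ b₂ := by
      refine IsPullback.of_right ?_ (pullback.lift_snd _ _ _) H₁
      rw [hpr₂]; exact H
    obtain ⟨σ, hσ, hσI⟩ := hb₂ P pr₂ q H₂
    let τ : S' ⟶ P := H₂.lift (b₂ ≫ δ) (𝟙 S') (by rw [Category.assoc, hδf, Category.comp_id, Category.id_comp])
    have hτ : IsPullback τ b₂ pr₂ δ := by
      refine (IsPullback.of_bot ?_ ((H₂.lift_fst _ _ _).symm) H₂).flip
      rw [H₂.lift_snd, hδf]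
      exact IsPullback.of_vert_isIso ⟨by simp⟩
    have hτk : δ.ker.comap pr₂ = τ.ker := by
      rw [← Scheme.IdealSheafData.ker_fst_of_isClosedImmersion, ← hτ.isoPullback_hom_fst,
        Scheme.Hom.ker_comp_of_isIso]
    refine ⟨Fin.cons τ σ, fun i => Fin.cases (by simpa using H₂.lift_snd _ _ _) (fun j => by simpa using hσ j) i, ?_⟩
    rw [← hpr₂, Scheme.IdealSheafData.comap_comp, heq, FComplLib.comap_mul, hσI, hτk, Fin.prod_univ_succ]
    simp

end Groth.Agent.DivSplit
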